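import Groth.Agent.FlatIso.Module

/-!
Maps out of nilpotent objects do not see a change of rings which is an isomorphism modulo the ideal.
-/

set_option autoImplicit false
set_option backward.isDefEq.respectTransparency false
set_option backward.isDefEq.respectTransparency.types false
set_option linter.style.haveILetI false
set_option linter.unusedSectionVars false
set_option maxHeartbeats 1000000
universe u

open CategoryTheory Limits Opposite Pretriangulated

attribute [local instance] HasDerivedCategory.standard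

namespace Groth.Agent.FlatIso

open Groth.Agent.Bousfield (NilOn resFun mapDerivedCategory_smul_id)

variable {C : Type u} [SmallCategory C] {J : GrothendieckTopology C} {O O' : Sheaf J CommRingCat.{u}} {φ : O ⟶ O'}
  {r : ℕ} {s : Fin r → DerComp.GSec O} (hq : IsoQuot φ s)
  {T : ModSite.Mod O ⥤ ModSite.Mod O} [T.Additive] [PreservesFiniteLimits T] [PreservesFiniteColimits T]
  (η : 𝟭 (ModSite.Mod O) ⟶ T)

/-- modules killed by powers of the scalars -/
theorem isIso_app_of_nilp (hη : ∀ M, (∀ i, DerComp.smulEnd (s i) M = 0) → IsIso (η.app M)) :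
    ∀ (m : Fin r → ℕ) (M : ModSite.Mod O), (∀ i, DerComp.smulEnd (s i ^ m i) M = 0) → IsIso (η.app M) := by
  suffices H : ∀ (N : ℕ) (m : Fin r → ℕ), (∑ i, m i) = N → ∀ M : ModSite.Mod O,
      (∀ i, DerComp.smulEnd (s i ^ m i) M = 0) → IsIso (η.app M) from fun m M h => H _ m rfl M h
  intro N
  induction N using Nat.strong_induction_on with
  | h N ih =>
    intro m hm M hM
    by_cases h1 : ∀ i, m i ≤ 1
    · refine hη M fun i => ?_
      rcases Nat.le_one_iff_eq_zero_or_eq_one.1 (h1 i) with h | h
      · have h0 := hM i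
        rw [h, pow_zero, DerComp.smulEnd_one] at h0
        exact ((IsZero.iff_id_eq_zero M).2 h0).eq_of_src _ _
      · simpa [h] using hM i
    · push Not at h1
      obtain ⟨i₀, hi₀⟩ := h1
      let a := DerComp.smulEnd (s i₀) M
      let S₁ := ShortComplex.mk (kernel.ι a) (Abelian.factorThruImage a) (by simp [← cancel_mono (Abelian.image.ι a)])
      have hS₁ : S₁.ShortExact :=
        { exact := S₁.exact_of_f_is_kernel (KernelFork.IsLimit.ofι' _ _ fun {Z} k hk =>
            ⟨kernel.lift a k (by rw [← Abelian.image.fac a, reassoc_of% hk, zero_comp]), kernel.lift_ι _ _ _⟩) }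
      have key : ∀ (K : ModSite.Mod O) (t : DerComp.GSec O) (ι : K ⟶ M), Mono ι →
          ι ≫ DerComp.smulEnd t M = 0 → DerComp.smulEnd t K = 0 := fun K t ι _ h => by
        rw [← cancel_mono ι, DerComp.smulEnd_comm, h, zero_comp]
      have hsub : ∀ (K : ModSite.Mod O) (ι : K ⟶ M), Mono ι → ∀ i, DerComp.smulEnd (s i ^ m i) K = 0 :=
        fun K ι hι i => key K _ ι hι (by rw [hM i, comp_zero])
      let lt := fun (k : ℕ) (hk : k < m i₀) => Function.update m i₀ k
      have hlt : ∀ k (hk : k < m i₀), ∑ i, lt k hk i < N := fun k hk => by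
        rw [← hm]
        refine Finset.sum_lt_sum (fun i _ => ?_) ⟨i₀, Finset.mem_univ _, by simp [lt, hk]⟩
        by_cases h : i = i₀
        · subst h; simp [lt, hk.le]
        · simp [lt, Function.update_of_ne h]
      haveI h₁ : IsIso (η.app S₁.X₁) := ih _ (hlt 1 hi₀) (lt 1 hi₀) rfl _ fun i => by
        by_cases h : i = i₀
        · subst h
          simp only [lt, Function.update_self, pow_one]
          exact key _ _ (kernel.ι a) inferInstance (kernel.condition a)
        · simp only [lt, Function.update_of_ne h]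
          exact hsub _ (kernel.ι a) inferInstance i
      haveI h₃ : IsIso (η.app S₁.X₃) := ih _ (hlt (m i₀ - 1) (by omega)) (lt (m i₀ - 1) (by omega)) rfl _ fun i => by
        by_cases h : i = i₀
        · subst h
          simp only [lt, Function.update_self]
          rw [← cancel_epi (Abelian.factorThruImage a), ← cancel_mono (Abelian.image.ι a), ← DerComp.smulEnd_comm]
          rw [Category.assoc, Abelian.image.fac, DerComp.smulEnd_comp, ← pow_succ, Nat.sub_add_cancel (by omega)]
          simp [hM]
        · simp only [lt, Function.update_of_ne h]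
          exact hsub _ (Abelian.image.ι a) inferInstance i
      have hS₁' := hS₁.map_of_exact T
      let τ : S₁ ⟶ S₁.map T := ⟨η.app _, η.app _, η.app _, (η.naturality S₁.f).symm, (η.naturality S₁.g).symm⟩
      haveI : IsIso τ.τ₁ := h₁
      haveI : IsIso τ.τ₃ := h₃
      exact ShortComplex.isIso₂_of_shortExact_of_isIso₁₃ τ hS₁ hS₁'

/-- the derived natural transformation -/
noncomputable def ηD : 𝟭 (DerivedCategory (ModSite.Mod O)) ⟶ T.mapDerivedCategory :=
  letI : Localization.Lifting DerivedCategory.Q (HomologicalComplex.quasiIso (ModSite.Mod O) (ComplexShape.up ℤ))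
      (T.mapHomologicalComplex (ComplexShape.up ℤ) ⋙ DerivedCategory.Q) T.mapDerivedCategory :=
    ⟨T.mapDerivedCategoryFactors⟩
  letI : Localization.Lifting DerivedCategory.Q (HomologicalComplex.quasiIso (ModSite.Mod O) (ComplexShape.up ℤ))
      DerivedCategory.Q (𝟭 (DerivedCategory (ModSite.Mod O))) := ⟨Functor.rightUnitor _⟩
  Localization.liftNatTrans DerivedCategory.Q (HomologicalComplex.quasiIso (ModSite.Mod O) (ComplexShape.up ℤ))
    DerivedCategory.Q (T.mapHomologicalComplex (ComplexShape.up ℤ) ⋙ DerivedCategory.Q) _ _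
    ((Functor.leftUnitor DerivedCategory.Q).inv ≫
      Functor.whiskerRight ((Functor.mapHomologicalComplexIdIso (ModSite.Mod O) (ComplexShape.up ℤ)).inv ≫
        NatTrans.mapHomologicalComplex η (ComplexShape.up ℤ)) DerivedCategory.Q)

/-- the unit on a complex -/
noncomputable def ηCx (K : CochainComplex (ModSite.Mod O) ℤ) :
    K ⟶ (T.mapHomologicalComplex (ComplexShape.up ℤ)).obj K where
  f n := η.app (K.X n)
  comm' i j _ := (η.naturality (K.d i j)).symm

lemma ηD_app (K : CochainComplex (ModSite.Mod O) ℤ) :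
    (ηD η).app (DerivedCategory.Q.obj K) =
      DerivedCategory.Q.map (ηCx η K) ≫ T.mapDerivedCategoryFactors.inv.app K := by
  simp only [ηD, Localization.liftNatTrans_app, NatTrans.comp_app, Functor.whiskerRight_app]
  simp only [Functor.leftUnitor_inv_app, Category.id_comp]
  have : ((Functor.mapHomologicalComplexIdIso (ModSite.Mod O) (ComplexShape.up ℤ)).inv.app K ≫
      (NatTrans.mapHomologicalComplex η (ComplexShape.up ℤ)).app K) = ηCx η K := by
    refine HomologicalComplex.hom_ext _ _ fun n => ?_
    simp [ηCx]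
  rw [this]
  exact Category.id_comp _

variable (hη : ∀ M, (∀ i, DerComp.smulEnd (s i) M = 0) → IsIso (η.app M))
  (hT : ∀ (t : DerComp.GSec O) (M : ModSite.Mod O), T.map (t • 𝟙 M) = t • 𝟙 (T.obj M))

include hη in
/-- the unit on nilpotent objects -/
theorem isIso_ηD_of_nilOn (X : DerivedCategory (ModSite.Mod O)) (hX : ∀ i, NilOn (s i) X) :
    IsIso ((ηD η).app X) := by
  choose m hm using hX
  let K := DerivedCategory.Q.objPreimage X
  let e : DerivedCategory.Q.obj K ≅ X := DerivedCategory.Q.objObjPreimageIso X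
  suffices IsIso ((ηD η).app (DerivedCategory.Q.obj K)) by
    have h := (ηD η).naturality e.hom
    have : (ηD η).app X = e.inv ≫ (ηD η).app (DerivedCategory.Q.obj K) ≫ T.mapDerivedCategory.map e.hom := by
      rw [← h]
      simp
    rw [this]
    infer_instance
  rw [ηD_app]
  suffices QuasiIso (ηCx η K) from inferInstance
  refine ⟨fun n => ?_⟩
  rw [quasiIsoAt_iff_isIso_homologyMap]
  have hk : ∀ i, DerComp.smulEnd (s i ^ m i) (K.homology n) = 0 := fun i => by
    have h1 : DerivedCategory.Q.map (s i ^ m i • 𝟙 K) = 0 := by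
      rw [Functor.map_smul, CategoryTheory.Functor.map_id]
      rw [← cancel_mono e.hom, Linear.smul_comp, Category.id_comp, zero_comp]
      calc s i ^ m i • e.hom = e.hom ≫ (s i ^ m i • 𝟙 X) := by simp
        _ = 0 := by rw [hm i, comp_zero]
    have h2 := congrArg (DerivedCategory.homologyFunctor (ModSite.Mod O) n).map h1
    rw [Functor.map_zero] at h2
    have h3 : HomologicalComplex.homologyMap (s i ^ m i • 𝟙 K) n = 0 := by
      let F := DerivedCategory.homologyFunctorFactors (ModSite.Mod O) n
      have h4 := F.hom.naturality (s i ^ m i • 𝟙 K)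
      simp only [Functor.comp_map] at h4
      rw [h2, zero_comp] at h4
      exact ((cancel_epi (F.hom.app K)).1 (h4.symm.trans comp_zero.symm))
    have h5 : HomologicalComplex.homologyMap (s i ^ m i • 𝟙 K) n = s i ^ m i • 𝟙 (K.homology n) := by
      have h6 : (HomologicalComplex.shortComplexFunctor (ModSite.Mod O) (ComplexShape.up ℤ) n).map (s i ^ m i • 𝟙 K) =
          s i ^ m i • 𝟙 (K.sc n) := ShortComplex.hom_ext _ _ rfl rfl rfl
      rw [HomologicalComplex.homologyMap, h6]
      refine (ShortComplex.homologyMap_smul (𝟙 (K.sc n)) _).trans ?_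
      rw [ShortComplex.homologyMap_id]
      rfl
    rw [h5, DerComp.smul_def, Category.comp_id] at h3
    exact h3
  haveI := isIso_app_of_nilp η hη m (K.homology n) hk
  let τ := NatTrans.mapHomologicalComplex η (ComplexShape.up ℤ)
  have e2 : HomologicalComplex.homologyMap (ηCx η K) n =
      (ShortComplex.mapHomologyIso (K.sc n) (𝟭 (ModSite.Mod O))).hom ≫ η.app (K.homology n) ≫
        (ShortComplex.mapHomologyIso (K.sc n) T).inv := by
    exact ShortComplex.homologyMap_mapNatTrans (K.sc n) η
  rw [e2]
  infer_instance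

include hη hT in
/-- **maps out of nilpotent objects** -/
theorem bijective_comp_ηD (E Y : DerivedCategory (ModSite.Mod O)) (hY : ∀ i, NilOn (s i) Y) :
    Function.Bijective fun g : Y ⟶ E => g ≫ (ηD η).app E := by
  suffices H : ∀ (k : ℕ), k ≤ r → ∀ E : DerivedCategory (ModSite.Mod O), (∀ i : Fin r, k ≤ i.1 → NilOn (s i) E) →
      ∀ Y : DerivedCategory (ModSite.Mod O), (∀ i, NilOn (s i) Y) →
        Function.Bijective fun g : Y ⟶ E => g ≫ (ηD η).app E from
    H r le_rfl E (fun i hi => absurd hi (by omega)) Y hY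
  intro k
  induction k with
  | zero =>
    intro _ E hE Y _
    haveI := isIso_ηD_of_nilOn η hη E fun i => hE i (Nat.zero_le _)
    exact ⟨fun a b h => (cancel_mono ((ηD η).app E)).1 h, fun b => ⟨b ≫ inv ((ηD η).app E), by simp⟩⟩
  | succ k ih =>
    intro hk E hE Y hY
    let i₀ : Fin r := ⟨k, hk⟩
    obtain ⟨m, hm⟩ := hY i₀
    let t := s i₀ ^ m
    obtain ⟨E₁, i', p', hE₁⟩ := distinguished_cocone_triangle (t • 𝟙 E)
    have hnil : ∀ i : Fin r, k ≤ i.1 → NilOn (s i) E₁ := fun i hi => by
      rcases Nat.eq_or_lt_of_le hi with h | h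
      · obtain rfl : i = i₀ := Fin.ext h.symm
        obtain ⟨q, hq⟩ := Bousfield.nilOn_cone t _ hE₁ (Iso.refl _) rfl
        exact ⟨m * q, by rw [pow_mul]; exact hq⟩
      · exact Bousfield.NilOn.of_triangle _ hE₁ (hE i h) (hE i h)
    let TD := T.mapDerivedCategory
    have hTt : ∀ Z : DerivedCategory (ModSite.Mod O), TD.map (t • 𝟙 Z) = t • 𝟙 (TD.obj Z) :=
      mapDerivedCategory_smul_id T id hT t
    have hkill : ∀ {W : DerivedCategory (ModSite.Mod O)} (g : Y ⟶ W), g ≫ (t • 𝟙 W) = 0 := fun {W} g => by
      calc g ≫ (t • 𝟙 W) = (t • 𝟙 Y) ≫ g := by simp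
        _ = 0 := by rw [hm, zero_comp]
    refine ⟨fun g g' hg => sub_eq_zero.1 ?_, fun b => ?_⟩
    · have h0 : (g - g') ≫ (ηD η).app E = 0 := by rw [Preadditive.sub_comp, sub_eq_zero]; exact hg
      generalize g - g' = x at h0
      have h1 : x ≫ i' = 0 := (ih (Nat.le_of_succ_le hk) E₁ hnil Y hY).1 (by
        simp only [Category.assoc, zero_comp]
        have := (ηD η).naturality i'
        simp only [Functor.id_map] at this
        rw [this, reassoc_of% h0, zero_comp])
      obtain ⟨y, hy⟩ := Triangle.coyoneda_exact₂ _ hE₁ x h1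
      rw [hy]
      exact hkill y
    · -- `b` comes from the inverse rotation
      have hT₁ := inv_rot_of_distTriang _ hE₁
      have hT₂ := TD.map_distinguished _ hT₁
      obtain ⟨c, hc⟩ := Triangle.coyoneda_exact₂ _ hT₂ b (by
        change b ≫ TD.map (t • 𝟙 E) = 0
        rw [hTt]
        exact hkill b)
      obtain ⟨c₀, hc₀⟩ := (ih (Nat.le_of_succ_le hk) (E₁⟦(-1 : ℤ)⟧) (fun i hi => (hnil i hi).shift _) Y hY).2 c
      refine ⟨c₀ ≫ (Triangle.mk (t • 𝟙 E) i' p').invRotate.mor₁, ?_⟩
      change (c₀ ≫ _) ≫ (ηD η).app E = b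
      rw [hc, ← hc₀]
      simp only [Category.assoc]
      refine congrArg (c₀ ≫ ·) ?_
      exact (ηD η).naturality _

end Groth.Agent.FlatIso
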