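import Groth.Agent.Bousfield.RestrScalars
import Groth.Agent.PullFlat.Exact
import Groth.Agent.ModSiteFlat.PushColim
import Groth.Agent.ModSiteExt.Consequences

/-!
Flat maps of sheaves of rings have exact extension of scalars.
-/

set_option autoImplicit false
set_option backward.isDefEq.respectTransparency false
set_option backward.isDefEq.respectTransparency.types false
set_option linter.style.haveILetI false
set_option linter.unusedSectionVars false
set_option maxHeartbeats 1000000
universe u

open CategoryTheory Limits Opposite

namespace Groth.Agent.FlatIso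

open Groth.Agent.Bousfield (resFun idMor)
attribute [local instance] ModSiteFlat.instModuleSect

variable {C : Type u} [SmallCategory C] {J : GrothendieckTopology C} {O O' : Sheaf J CommRingCat.{u}} (φ : O ⟶ O')

theorem isFlat_baseMod (hflat : ModSite.IsFlat ((resFun φ).obj (ModSite.unit O'))) :
    ModSite.IsFlat (idMor φ).baseMod := by
  let f := idMor φ
  let R := f.fn.sheafPushforwardContinuous CommRingCat.{u} J J
  let adj := f.fn.sheafAdjunctionContinuous CommRingCat.{u} J J
  haveI : R.IsEquivalence := Functor.isEquivalence_of_iso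
    (Functor.sheafPushforwardContinuousId CommRingCat.{u} J).symm
  haveI : (f.fn.sheafPullback CommRingCat.{u} J J).IsEquivalence := adj.isEquivalence_left_of_isEquivalence_right
  haveI : IsIso (adj.unit.app O) := inferInstance
  have hb : ∀ U : C, Function.Bijective ((adj.unit.app O).hom.app (op U)).hom := fun U =>
    ConcreteCategory.bijective_of_isIso ((adj.unit.app O).hom.app (op U))
  have hsharp : ∀ (U : C) (b : O.obj.obj (op U)),
      (f.invSharp.hom.app (op U)).hom (((adj.unit.app O).hom.app (op U)).hom b) = (φ.hom.app (op U)).hom b := by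
    intro U b
    have h := Equiv.apply_symm_apply (adj.homEquiv O O') f.sharp
    rw [Adjunction.homEquiv_unit] at h
    exact ConcreteCategory.congr_hom (congrArg (fun τ : O ⟶ _ => τ.hom.app (op U)) h) b
  refine ModSiteFlat.isFlat_of_hasLocalTriv fun U n c x hrel => ?_
  choose c' hc' using fun j => (hb U).2 (c j)
  have hrel' : ∑ j, c' j • (show ModSite.sect ((resFun φ).obj (ModSite.unit O')) U from x j) = 0 := by
    refine Eq.trans (Finset.sum_congr rfl fun j _ => ?_) hrel
    rw [← hc' j]
    exact congrArg (· * (show O'.obj.obj (op U) from x j)) (hsharp U (c' j)).symm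
  obtain ⟨S, hS, h⟩ := ModSiteFlat.hasLocalTriv_of_isFlat hflat U n c' _ hrel'
  refine ⟨S, hS, fun V g hg => ?_⟩
  obtain ⟨l, t, a, h₁, h₂⟩ := h g hg
  refine ⟨l, fun k => t k, fun j k => ((adj.unit.app O).hom.app (op V)).hom (a j k), fun j => ?_, fun k => ?_⟩
  · refine (h₁ j).trans (Finset.sum_congr rfl fun k _ => ?_)
    exact congrArg (· * (show O'.obj.obj (op V) from t k)) (hsharp V (a j k)).symm
  · refine Eq.trans (Finset.sum_congr rfl fun j _ => ?_) ((congrArg ((adj.unit.app O).hom.app (op V)).hom (h₂ k)).trans
      (map_zero _) |> fun e => ((map_sum _ _ _).symm.trans e))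
    rw [map_mul]
    refine congrArg (fun z : f.invRing.obj.obj (op V) => (show f.invRing.obj.obj (op V) from ((adj.unit.app O).hom.app (op V)).hom (a j k)) * z) ?_
    rw [← hc' j]
    exact (ConcreteCategory.congr_hom ((adj.unit.app O).hom.naturality g.op) (c' j)).symm

theorem preservesFiniteLimits_left {L : ModSite.Mod O ⥤ ModSite.Mod O'} (adj : L ⊣ resFun φ)
    (hflat : ModSite.IsFlat ((resFun φ).obj (ModSite.unit O'))) : PreservesFiniteLimits L := by
  haveI : PreservesFiniteLimits (PullFlat.pb J J (idMor φ).fn) := (idMor φ).exact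
  haveI : PreservesFiniteLimits (idMor φ).pull :=
    PullFlat.isFlat_of_baseMod (f := idMor φ) (isFlat_baseMod φ hflat)
  exact preservesFiniteLimits_of_natIso (Adjunction.leftAdjointUniq (idMor φ).adj adj)

theorem preservesFiniteColimits_left {L : ModSite.Mod O ⥤ ModSite.Mod O'} (adj : L ⊣ resFun φ) :
    PreservesFiniteColimits L := by
  haveI : PreservesColimitsOfSize.{0, 0} L := adj.leftAdjoint_preservesColimits
  infer_instance

theorem preservesFiniteColimits_res : PreservesFiniteColimits (resFun φ) := by
  haveI : PreservesColimitsOfSize.{u, u} (resFun φ) :=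
    ModSiteFlat.preservesColimits_pushforward (F := 𝟭 C) _
  haveI : PreservesColimitsOfSize.{0, 0} (resFun φ) := preservesSmallestColimits_of_preservesColimits _
  infer_instance

theorem preservesFiniteLimits_res {L : ModSite.Mod O ⥤ ModSite.Mod O'} (adj : L ⊣ resFun φ) :
    PreservesFiniteLimits (resFun φ) := by
  haveI : PreservesLimitsOfSize.{0, 0} (resFun φ) := adj.rightAdjoint_preservesLimits
  infer_instance

end Groth.Agent.FlatIso
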