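import Groth.Agent.FlatIso.Derived
import Groth.Agent.FlatIso.Flat
import Groth.Agent.Bousfield.RpushCompletion

/-!
Derived complete objects do not see a flat change of rings which is an isomorphism modulo the ideal.
-/

set_option autoImplicit false
set_option backward.isDefEq.respectTransparency false
set_option backward.isDefEq.respectTransparency.types false
set_option linter.style.haveILetI false
set_option linter.unusedSectionVars false
set_option maxHeartbeats 1000000
universe u

open CategoryTheory Limits Opposite Pretriangulated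

attribute [local instance] HasDerivedCategory.standard

namespace Groth.Agent.FlatIso

open Groth.Agent.Bousfield

variable {C : Type u} [SmallCategory C] {J : GrothendieckTopology C} {O O' : Sheaf J CommRingCat.{u}} (φ : O ⟶ O')

/-- the map on a slice -/
noncomputable def φOver (W : C) : O.over W ⟶ O'.over W :=
  ((Over.forget W).sheafPushforwardContinuous CommRingCat.{u} (J.over W) J).map φ

lemma spanLoc_eq {I : DerComp.IdealSh O} {n : ℕ} {s : Fin n → DerComp.GSec O} (hI : I.IsGenBy s) (U : C)
    (a : O.obj.obj (op U)) : a ∈ (spanLoc s).ideal U ↔ a ∈ I.ideal U := by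
  refine ⟨fun ha => I.glue _ ha fun V g hg => ?_, fun ha => hI.2 _ (mem_spanLoc_contains s) U ha⟩
  exact Ideal.span_le.2 (by rintro _ ⟨i, rfl⟩; exact hI.1 i V) hg

lemma φg_ofSect (W : C) (a : O.obj.obj (op W)) :
    φg (φOver φ W) (DerComp.GSec.ofSect O W a) = DerComp.GSec.ofSect O' W (φs φ W a) :=
  Subtype.ext (funext fun H => φs_map φ H.hom a)

variable {I : DerComp.IdealSh O} {I' : DerComp.IdealSh O'}

lemma isGenBy_φs (hI' : DerComp.IsIdealExt φ I I') (W : C) {n : ℕ} (a : Fin n → O.obj.obj (op W))
    (ha : (I.over W).IsGenBy fun i => DerComp.GSec.ofSect O W (a i)) :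
    (I'.over W).IsGenBy fun i => DerComp.GSec.ofSect O' W (φs φ W (a i)) :=
  isGenBy_sharp (idMor φ) (I := I) (I' := I') ⟨fun V g hg => hI'.1 V g hg, fun J' hJ' => hI'.2 J' hJ'⟩ W a ha

theorem isoQuot_over (hI' : DerComp.IsIdealExt φ I I')
    (hinj : ∀ (U : C) (f : O.obj.obj (op U)), (φ.hom.app (op U)).hom f ∈ I'.ideal U → f ∈ I.ideal U)
    (hsurj : ∀ (U : C) (f' : O'.obj.obj (op U)), ∃ S ∈ J U, ∀ ⦃V : C⦄ (g : V ⟶ U), S g → ∃ a : O.obj.obj (op V),
      (O'.obj.map g.op).hom f' - (φ.hom.app (op V)).hom a ∈ I'.ideal V)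
    (W : C) {n : ℕ} (a : Fin n → O.obj.obj (op W))
    (ha : (I.over W).IsGenBy fun i => DerComp.GSec.ofSect O W (a i)) :
    IsoQuot (φOver φ W) (fun i => DerComp.GSec.ofSect O W (a i)) := by
  have e : (fun i => φg (φOver φ W) (DerComp.GSec.ofSect O W (a i))) = fun i => DerComp.GSec.ofSect O' W (φs φ W (a i)) :=
    funext fun i => φg_ofSect φ W (a i)
  refine ⟨fun H x hx => ?_, fun H b => ?_⟩
  · rw [e] at hx
    exact (spanLoc_eq ha H x).2 (hinj H.left x ((spanLoc_eq (isGenBy_φs φ hI' W a ha) H _).1 hx))
  · obtain ⟨S, hS, h⟩ := hsurj H.left b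
    refine ⟨(Sieve.overEquiv H).symm S, J.overEquiv_symm_mem_over H S hS, fun V g hg => ?_⟩
    obtain ⟨c, hc⟩ := h g.left ((Sieve.overEquiv_symm_iff S g).1 hg)
    refine ⟨c, ?_⟩
    rw [e]
    exact (spanLoc_eq (isGenBy_φs φ hI' W a ha) V _).2 hc

/-- extension of scalars -/
noncomputable abbrev extF : ModSite.Mod O ⥤ ModSite.Mod O' := (idMor φ).pull

/-- its adjunction -/
noncomputable abbrev extAdj : extF φ ⊣ resFun φ := (idMor φ).adj

lemma res_smul_id (t : DerComp.GSec O) (M : ModSite.Mod O') :
    (resFun φ).map (φg φ t • 𝟙 M) = t • 𝟙 ((resFun φ).obj M) := by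
  rw [DerComp.smul_def, DerComp.smul_def, Category.comp_id, Category.comp_id]
  rfl

lemma ext_smul_id {L : ModSite.Mod O ⥤ ModSite.Mod O'} (adj : L ⊣ resFun φ) (t : DerComp.GSec O) (M : ModSite.Mod O) :
    L.map (t • 𝟙 M) = φg φ t • 𝟙 (L.obj M) := by
  refine (adj.homEquiv M (L.obj M)).injective ?_
  rw [adj.homEquiv_unit, adj.homEquiv_unit, res_smul_id, Linear.comp_smul]
  erw [Category.comp_id]
  refine (adj.unit.naturality (t • 𝟙 M)).symm.trans ?_
  simp

lemma unit_smul_id {L : ModSite.Mod O ⥤ ModSite.Mod O'} (adj : L ⊣ resFun φ) (t : DerComp.GSec O) (M : ModSite.Mod O) :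
    (L ⋙ resFun φ).map (t • 𝟙 M) = t • 𝟙 ((L ⋙ resFun φ).obj M) := by
  rw [Functor.comp_map, ext_smul_id φ adj, res_smul_id]
  rfl

section Exact

variable [PreservesFiniteLimits (extF φ)]

instance preservesFiniteColimits_extF : PreservesFiniteColimits (extF φ) := preservesFiniteColimits_left φ (extAdj φ)

instance preservesFiniteColimits_resFun : PreservesFiniteColimits (resFun φ) := preservesFiniteColimits_res φ

instance preservesFiniteLimits_resFun : PreservesFiniteLimits (resFun φ) := preservesFiniteLimits_res φ (extAdj φ)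

instance additive_extF : (extF φ).Additive := (extAdj φ).left_adjoint_additive

/-- the derived unit -/
noncomputable abbrev etaE : 𝟭 (DerivedCategory (ModSite.Mod O)) ⟶ (extF φ ⋙ resFun φ).mapDerivedCategory :=
  ηD (extAdj φ).unit

end Exact

variable (hflat : ModSite.IsFlat ((resFun φ).obj (ModSite.unit O'))) (hI : I.IsFiniteType)
  (hI' : DerComp.IsIdealExt φ I I')
  (hinj : ∀ (U : C) (f : O.obj.obj (op U)), (φ.hom.app (op U)).hom f ∈ I'.ideal U → f ∈ I.ideal U)
  (hsurj : ∀ (U : C) (f' : O'.obj.obj (op U)), ∃ S ∈ J U, ∀ ⦃V : C⦄ (g : V ⟶ U), S g → ∃ a : O.obj.obj (op V),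
    (O'.obj.map g.op).hom f' - (φ.hom.app (op V)).hom a ∈ I'.ideal V)

lemma isFlat_of_iso {C' : Type u} [SmallCategory C'] {J' : GrothendieckTopology C'} {R : Sheaf J' CommRingCat.{u}}
    {F F' : ModSite.Mod R} (e : F ≅ F') (h : ModSite.IsFlat F) : ModSite.IsFlat F' :=
  haveI := h.1
  haveI := h.2
  ⟨preservesFiniteLimits_of_natIso ((ModSite.tensorBi R).flip.mapIso e),
    preservesFiniteColimits_of_natIso ((ModSite.tensorBi R).flip.mapIso e)⟩

section Slice

variable (W : C)

/-- the inverse image on a slice -/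
noncomputable abbrev extW : ModSite.Mod (O.over W) ⥤ ModSite.Mod (O'.over W) := PullFlat.pullV (idMor φ) W

/-- its adjunction -/
noncomputable abbrev adjW : extW φ W ⊣ resFun (φOver φ W) := PullFlat.adjV (idMor φ) W

/-- the units on the site and on a slice have comparable targets -/
noncomputable def θOver (M : ModSite.Mod O) :
    (extW φ W ⋙ resFun (φOver φ W)).obj ((ModSite.restr O W).obj M) ≅
      (ModSite.restr O W).obj ((extF φ ⋙ resFun φ).obj M) :=
  (resFun (φOver φ W)).mapIso (PullFlat.pullRestrIso (idMor φ) W M) ≪≫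
    ((PullFlat.pushRestrIso (idMor φ) W).app ((extF φ).obj M)).symm

lemma map_unit_app (M : ModSite.Mod O) :
    (ModSite.restr O W).map ((extAdj φ).unit.app M) =
      (adjW φ W).unit.app ((ModSite.restr O W).obj M) ≫ (θOver φ W M).hom := by
  simp only [θOver, Iso.trans_hom, Functor.mapIso_hom, PullFlat.pullRestrIso, Iso.app_hom, asIso_hom, Iso.symm_hom, Iso.app_inv]
  rw [← Category.assoc]
  have h := Equiv.apply_symm_apply ((PullFlat.adjV (idMor φ) W).homEquiv _ _)
    ((ModSite.restr O W).map ((extAdj φ).unit.app M) ≫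
      (PullFlat.pushRestrIso (idMor φ) W).hom.app ((extF φ).obj M))
  rw [Adjunction.homEquiv_unit] at h
  refine Eq.trans ?_ (congrArg (· ≫ _) h).symm
  simp only [Category.assoc, Iso.hom_inv_id_app]
  exact (Category.comp_id _).symm

lemma θOver_naturality {M M' : ModSite.Mod O} (g : M ⟶ M') :
    (extW φ W ⋙ resFun (φOver φ W)).map ((ModSite.restr O W).map g) ≫ (θOver φ W M').hom =
      (θOver φ W M).hom ≫ (ModSite.restr O W).map ((extF φ ⋙ resFun φ).map g) := by
  simp only [θOver, Iso.trans_hom, Functor.mapIso_hom, PullFlat.pullRestrIso, Iso.app_hom, asIso_hom, Iso.symm_hom, Iso.app_inv, Category.assoc]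
  have h1 := (Functor.whiskerRight (PullFlat.sθ (idMor φ) W) (resFun (φOver φ W))).naturality g
  refine (Category.assoc _ _ _).symm.trans ((congrArg (· ≫ _) h1).trans ((Category.assoc _ _ _).trans ?_))
  exact congrArg (_ ≫ ·) ((PullFlat.pushRestrIso (idMor φ) W).inv.naturality ((extF φ).map g))

/-- restriction of scalars of the structure sheaf commutes with slices -/
noncomputable def unitOverIso : (ModSite.restr O W).obj ((resFun φ).obj (ModSite.unit O')) ≅
    (resFun (φOver φ W)).obj (ModSite.unit (O'.over W)) :=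
  (SheafOfModules.fullyFaithfulForget _).preimageIso (PresheafOfModules.isoMk (fun _ => Iso.refl _))

end Slice

include hflat hI' hinj hsurj in
/-- nilpotent objects of a slice do not see the unit -/
theorem bijective_comp_restr [PreservesFiniteLimits (extF φ)] (W : C) {n : ℕ} (a : Fin n → O.obj.obj (op W))
    (ha : (I.over W).IsGenBy fun i => DerComp.GSec.ofSect O W (a i)) (E : DerivedCategory (ModSite.Mod O))
    (Y : DerivedCategory (ModSite.Mod (O.over W))) (hY : ∀ i, NilOn (DerComp.GSec.ofSect O W (a i)) Y) :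
    Function.Bijective fun g : Y ⟶ (restrD O W).obj E => g ≫ (restrD O W).map ((etaE φ).app E) := by
  let adjW' : extW φ W ⊣ resFun (φOver φ W) := adjW φ W
  have hflatW : ModSite.IsFlat ((resFun (φOver φ W)).obj (ModSite.unit (O'.over W))) :=
    isFlat_of_iso (unitOverIso φ W) (ModSiteExt.isFlat_restr O W _ hflat)
  haveI : PreservesFiniteLimits (extW φ W) := preservesFiniteLimits_left (φOver φ W) adjW' hflatW
  haveI : PreservesFiniteColimits (extW φ W) := preservesFiniteColimits_left (φOver φ W) adjW'
  haveI : PreservesFiniteColimits (resFun (φOver φ W)) := preservesFiniteColimits_res (φOver φ W)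
  haveI : PreservesFiniteLimits (resFun (φOver φ W)) := preservesFiniteLimits_res (φOver φ W) adjW'
  haveI : (extW φ W).Additive := adjW'.left_adjoint_additive
  let T := extF φ ⋙ resFun φ
  let TW := extW φ W ⋙ resFun (φOver φ W)
  let η := (extAdj φ).unit
  let ηW := adjW'.unit
  -- reduce to complexes
  let K := DerivedCategory.Q.objPreimage E
  let e : DerivedCategory.Q.obj K ≅ E := DerivedCategory.Q.objObjPreimageIso E
  let rK := ((ModSite.restr O W).mapHomologicalComplex (ComplexShape.up ℤ)).obj K
  let φr := (ModSite.restr O W).mapDerivedCategoryFactors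
  let θK : (TW.mapHomologicalComplex (ComplexShape.up ℤ)).obj rK ≅
      ((ModSite.restr O W).mapHomologicalComplex (ComplexShape.up ℤ)).obj
        ((T.mapHomologicalComplex (ComplexShape.up ℤ)).obj K) :=
    HomologicalComplex.Hom.isoOfComponents (fun k => θOver φ W (K.X k)) fun i j _ => (θOver_naturality φ W (K.d i j)).symm
  have hK : ((ModSite.restr O W).mapHomologicalComplex (ComplexShape.up ℤ)).map (ηCx η K) = ηCx ηW rK ≫ θK.hom :=
    HomologicalComplex.hom_ext _ _ fun k => map_unit_app φ W (K.X k)
  let i₁ : (restrD O W).obj E ≅ DerivedCategory.Q.obj rK := (restrD O W).mapIso e.symm ≪≫ φr.app K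
  let i₂ : TW.mapDerivedCategory.obj (DerivedCategory.Q.obj rK) ≅ (restrD O W).obj (T.mapDerivedCategory.obj E) :=
    TW.mapDerivedCategoryFactors.app rK ≪≫ DerivedCategory.Q.mapIso θK ≪≫ (φr.app _).symm ≪≫
      (restrD O W).mapIso ((T.mapDerivedCategoryFactors.app K).symm ≪≫ T.mapDerivedCategory.mapIso e)
  have key : (restrD O W).map ((etaE φ).app E) = i₁.hom ≫ (ηD ηW).app (DerivedCategory.Q.obj rK) ≫ i₂.hom := by
    have he : (etaE φ).app E = e.inv ≫ (etaE φ).app (DerivedCategory.Q.obj K) ≫ T.mapDerivedCategory.map e.hom := by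
      rw [← (etaE φ).naturality e.hom]
      simp
    rw [he, ηD_app η K, ηD_app ηW rK]
    simp only [i₁, i₂, Iso.trans_hom, Functor.mapIso_hom, Iso.symm_hom, Iso.app_hom, Iso.app_inv, Category.assoc]
    erw [Iso.inv_hom_id_app_assoc]
    rw [← DerivedCategory.Q.map_comp_assoc, ← hK]
    rw [Functor.map_comp, Functor.map_comp, Functor.map_comp]
    refine congrArg ((restrD O W).map e.inv ≫ ·) ?_
    have hnat := φr.hom.naturality (ηCx η K)
    simp only [Functor.comp_map] at hnat
    rw [← reassoc_of% hnat, Iso.hom_inv_id_app_assoc]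
  have hb := bijective_comp_ηD ηW (fun M hM => isIso_unit_of_killed (isoQuot_over φ hI' hinj hsurj W a ha) adjW' hM)
    (unit_smul_id (φOver φ W) adjW') (DerivedCategory.Q.obj rK) Y hY
  have : (fun g : Y ⟶ (restrD O W).obj E => g ≫ (restrD O W).map ((etaE φ).app E)) =
      i₂.homToEquiv ∘ (fun g => g ≫ (ηD ηW).app (DerivedCategory.Q.obj rK)) ∘ i₁.homToEquiv := by
    funext g
    simp [key, Iso.homToEquiv]
  refine (congrArg Function.Bijective this).mpr ?_
  exact (Equiv.bijective _).comp (hb.comp (Equiv.bijective _))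

/-- completeness gives the killing of restricted tests -/
lemma killed_restr_gens {C' : Type u} [SmallCategory C'] {J' : GrothendieckTopology C'}
    {R : Sheaf J' CommRingCat.{u}} {I₀ : DerComp.IdealSh R} (W : C') {n : ℕ} (s : Fin n → DerComp.GSec (R.over W))
    (hs : (I₀.over W).IsGenBy s) {N : DerivedCategory (ModSite.Mod R)} (hN : Killed I₀ N) :
    Killed (I₀.over W) ((restrD R W).obj N) :=
  killed_restr W (fun q => killed_restr_test_of_gens W q.1 q.2.1 q.2.2 s hs) hN

include hflat hI hI' hinj hsurj in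
/-- the cone of the unit is killed -/
theorem killed_cone_eta [PreservesFiniteLimits (extF φ)] [DerComp.HasDerCompletion O I]
    (E : DerivedCategory (ModSite.Mod O)) {N : DerivedCategory (ModSite.Mod O)}
    {i : (extF φ ⋙ resFun φ).mapDerivedCategory.obj E ⟶ N} {p : N ⟶ E⟦(1 : ℤ)⟧}
    (hN : Triangle.mk ((etaE φ).app E) i p ∈ distTriang _) : Killed I N := by
  refine killed_of_locally fun U => ?_
  obtain ⟨S, hS, h⟩ := hI U
  refine ⟨S, hS, fun W g hg => ?_⟩
  obtain ⟨r, a, ha⟩ := h g hg
  refine ⟨killed_of_kosNull _ ha.1 fun Y hY x => ?_, fun N hN => killed_restr_gens W _ ha hN⟩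
  have key := (subsingleton_iff_bijective_left _ ((restrD O W).map_distinguished _ hN) Y).2 fun m =>
    bijective_comp_restr φ hflat hI' hinj hsurj W a ha E (Y⟦m⟧)
      fun i => (hY _ (List.mem_ofFn.2 ⟨i, rfl⟩)).shift m
  let z := (shiftFunctorZero (DerivedCategory (ModSite.Mod (O.over W))) ℤ).app Y
  exact (cancel_epi z.hom).1 ((key 0 _).trans comp_zero.symm)

lemma isZero_of_res {R R' : Sheaf J CommRingCat.{u}} (ψ : R ⟶ R') [PreservesFiniteLimits (resFun ψ)]
    [PreservesFiniteColimits (resFun ψ)] {X : DerivedCategory (ModSite.Mod R')}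
    (h : IsZero ((resFun ψ).mapDerivedCategory.obj X)) : IsZero X := by
  let K := DerivedCategory.Q.objPreimage X
  let e : DerivedCategory.Q.obj K ≅ X := DerivedCategory.Q.objObjPreimageIso X
  refine IsZero.of_iso ((QuotDer.isZero_Q_obj_iff K).2 fun n => ?_) e.symm
  have h0 : IsZero (DerivedCategory.Q.obj (((resFun ψ).mapHomologicalComplex (ComplexShape.up ℤ)).obj K)) :=
    IsZero.of_iso (h.of_iso ((resFun ψ).mapDerivedCategory.mapIso e))
      ((resFun ψ).mapDerivedCategoryFactors.app K).symm
  have h1 : IsZero ((resFun ψ).obj (K.homology n)) :=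
    (((QuotDer.isZero_Q_obj_iff _).1 h0 n).isZero_homology).of_iso ((K.sc n).mapHomologyIso (resFun ψ)).symm
  rw [HomologicalComplex.exactAt_iff_isZero_homology, IsZero.iff_id_eq_zero]
  refine SheafOfModules.hom_ext (PresheafOfModules.hom_ext fun V => ?_)
  ext x
  exact congrArg (fun z : (resFun ψ).obj (K.homology n) ⟶ (resFun ψ).obj (K.homology n) => (z.val.app V).hom x)
    (h1.eq_of_src (𝟙 _) 0)

lemma restr_res_iso [PreservesFiniteLimits (resFun φ)] [PreservesFiniteColimits (resFun φ)] (W : C)
    [PreservesFiniteLimits (resFun (φOver φ W))] [PreservesFiniteColimits (resFun (φOver φ W))]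
    (X : DerivedCategory (ModSite.Mod O')) :
    Nonempty ((resFun (φOver φ W)).mapDerivedCategory.obj ((restrD O' W).obj X) ≅
      (restrD O W).obj ((resFun φ).mapDerivedCategory.obj X)) := by
  let K := DerivedCategory.Q.objPreimage X
  let e : DerivedCategory.Q.obj K ≅ X := DerivedCategory.Q.objObjPreimageIso X
  exact ⟨(resFun (φOver φ W)).mapDerivedCategory.mapIso ((restrD O' W).mapIso e.symm ≪≫
      (ModSite.restr O' W).mapDerivedCategoryFactors.app K) ≪≫
    (resFun (φOver φ W)).mapDerivedCategoryFactors.app _ ≪≫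
    DerivedCategory.Q.mapIso (((NatIso.mapHomologicalComplex (PullFlat.pushRestrIso (idMor φ) W)
      (ComplexShape.up ℤ)).app K).symm ≪≫ Iso.refl (((ModSite.restr O W).mapHomologicalComplex (ComplexShape.up ℤ)).obj
        (((resFun φ).mapHomologicalComplex (ComplexShape.up ℤ)).obj K))) ≪≫
    ((ModSite.restr O W).mapDerivedCategoryFactors.app _).symm ≪≫
    (restrD O W).mapIso (((resFun φ).mapDerivedCategoryFactors.app K).symm ≪≫
      (resFun φ).mapDerivedCategory.mapIso e)⟩

include hI hI' in
/-- restriction of scalars detects and preserves killed objects -/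
theorem killed_res_iff [PreservesFiniteLimits (resFun φ)] [PreservesFiniteColimits (resFun φ)]
    [DerComp.HasDerCompletion O I] [DerComp.HasDerCompletion O' I'] (X : DerivedCategory (ModSite.Mod O')) :
    Killed I ((resFun φ).mapDerivedCategory.obj X) ↔ Killed I' X := by
  have aux : ∀ (W : C) {n : ℕ} (a : Fin n → O.obj.obj (op W)),
      (I.over W).IsGenBy (fun i => DerComp.GSec.ofSect O W (a i)) →
      (KosNull (List.ofFn fun i => DerComp.GSec.ofSect O W (a i))
          ((restrD O W).obj ((resFun φ).mapDerivedCategory.obj X)) ↔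
        KosNull (List.ofFn fun i => DerComp.GSec.ofSect O' W (φs φ W (a i))) ((restrD O' W).obj X)) := by
    intro W n a ha
    haveI : PreservesFiniteLimits (resFun (φOver φ W)) := preservesFiniteLimits_res _ (extAdj (φOver φ W))
    haveI : PreservesFiniteColimits (resFun (φOver φ W)) := preservesFiniteColimits_res _
    obtain ⟨i⟩ := restr_res_iso φ W X
    let G := (resFun (φOver φ W)).mapDerivedCategory
    have hG : ∀ (t : DerComp.GSec (O.over W)) (Z : DerivedCategory (ModSite.Mod (O'.over W))),
        G.map (φg (φOver φ W) t • 𝟙 Z) = t • 𝟙 (G.obj Z) := fun t Z => by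
      let K := DerivedCategory.Q.objPreimage Z
      let e : DerivedCategory.Q.obj K ≅ Z := DerivedCategory.Q.objObjPreimageIso Z
      let ff := (resFun (φOver φ W)).mapDerivedCategoryFactors
      have h1 : φg (φOver φ W) t • 𝟙 Z = e.inv ≫ DerivedCategory.Q.map (φg (φOver φ W) t • 𝟙 K) ≫ e.hom := by
        rw [Functor.map_smul, CategoryTheory.Functor.map_id]
        simp
      have h2 : ((resFun (φOver φ W)).mapHomologicalComplex (ComplexShape.up ℤ)).map (φg (φOver φ W) t • 𝟙 K) =
          t • 𝟙 _ := HomologicalComplex.hom_ext _ _ fun k => by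
        simp only [Functor.mapHomologicalComplex_map_f, HomologicalComplex.smul_f_apply, HomologicalComplex.id_f,
          res_smul_id]
        rfl
      have h0 : G.map (DerivedCategory.Q.map (φg (φOver φ W) t • 𝟙 K)) = t • 𝟙 _ := by
        rw [← cancel_mono (ff.hom.app K)]
        refine (ff.hom.naturality _).trans ?_
        change _ ≫ DerivedCategory.Q.map (((resFun (φOver φ W)).mapHomologicalComplex (ComplexShape.up ℤ)).map _) = _
        rw [h2, Functor.map_smul, CategoryTheory.Functor.map_id, Linear.comp_smul, Linear.smul_comp]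
        simp [G]
      rw [h1, Functor.map_comp, Functor.map_comp, h0]
      simp [← Functor.map_comp, G]
    have hl : (List.ofFn fun i => DerComp.GSec.ofSect O W (a i)).map (φg (φOver φ W)) =
        List.ofFn fun i => DerComp.GSec.ofSect O' W (φs φ W (a i)) := by
      rw [List.map_ofFn]
      exact congrArg List.ofFn (funext fun i => φg_ofSect φ W (a i))
    rw [← hl]
    refine ⟨fun h => ?_, fun h => (KosNull.map G (φg (φOver φ W)) hG _ h).of_iso i⟩
    have h' := h.of_iso i.symm
    revert h'
    generalize (List.ofFn fun i => DerComp.GSec.ofSect O W (a i)) = l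
    generalize (restrD O' W).obj X = Z
    induction l generalizing Z with
    | nil => exact fun h => kosNull_of_isZero _ (isZero_of_res (φOver φ W) (h.isZero (by simp)))
    | cons b l ih =>
      intro h
      obtain ⟨Z', j, q, hT⟩ := distinguished_cocone_triangle (φg (φOver φ W) b • 𝟙 Z)
      refine (kosNull_cons_iff _ _ hT).2 (ih Z' ?_)
      refine (kosNull_cons_iff b l (i := G.map j) (p := G.map q ≫ (G.commShiftIso (1 : ℤ)).hom.app Z) ?_).1 h
      rw [← hG b Z]
      exact G.map_distinguished _ hT
  constructor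
  · intro h
    refine killed_of_locally fun U => ?_
    obtain ⟨S, hS, hW⟩ := hI U
    refine ⟨S, hS, fun W g hg => ?_⟩
    obtain ⟨r, a, ha⟩ := hW g hg
    have ha' := isGenBy_φs φ hI' W a ha
    exact ⟨killed_of_kosNull _ ha'.1 ((aux W a ha).1 ((killed_restr_gens W _ ha h).kosNull _ ha)),
      fun N hN => killed_restr_gens W _ ha' hN⟩
  · intro h
    refine killed_of_locally fun U => ?_
    obtain ⟨S, hS, hW⟩ := hI U
    refine ⟨S, hS, fun W g hg => ?_⟩
    obtain ⟨r, a, ha⟩ := hW g hg
    have ha' := isGenBy_φs φ hI' W a ha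
    exact ⟨killed_of_kosNull _ ha.1 ((aux W a ha).2 ((killed_restr_gens W _ ha' h).kosNull _ ha')),
      fun N hN => killed_restr_gens W _ ha hN⟩

include hflat hI hI' hinj hsurj in
/-- **the equivalence of derived complete objects** -/
theorem dComp_equiv [PreservesFiniteLimits (resFun φ)] [PreservesFiniteColimits (resFun φ)] :
    (∀ K' L' : DerivedCategory (ModSite.Mod O'), DerComp.IsDerComp O' I' K' → DerComp.IsDerComp O' I' L' →
        Function.Bijective fun ψ : K' ⟶ L' => (resFun φ).mapDerivedCategory.map ψ) ∧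
      ∀ E : DerivedCategory (ModSite.Mod O), DerComp.IsDerComp O I E → ∃ K' : DerivedCategory (ModSite.Mod O'),
        DerComp.IsDerComp O' I' K' ∧ Nonempty ((resFun φ).mapDerivedCategory.obj K' ≅ E) := by
  haveI := preservesFiniteLimits_left φ (extAdj φ) hflat
  haveI : DerComp.HasDerCompletion O I := hasDerCompletion I
  haveI : DerComp.HasDerCompletion O' I' := hasDerCompletion I'
  let LD := (extF φ).mapDerivedCategory
  let RD := (resFun φ).mapDerivedCategory
  let T := extF φ ⋙ resFun φ
  letI : CatCommSq ((extF φ).mapHomologicalComplex (ComplexShape.up ℤ)) DerivedCategory.Q DerivedCategory.Q LD :=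
    ⟨(extF φ).mapDerivedCategoryFactors.symm⟩
  letI : CatCommSq ((resFun φ).mapHomologicalComplex (ComplexShape.up ℤ)) DerivedCategory.Q DerivedCategory.Q RD :=
    ⟨(resFun φ).mapDerivedCategoryFactors.symm⟩
  let adjD : LD ⊣ RD := (KInj.mapHomologicalComplexAdj (extAdj φ) (ComplexShape.up ℤ)).localization DerivedCategory.Q
    (HomologicalComplex.quasiIso _ (ComplexShape.up ℤ)) DerivedCategory.Q
    (HomologicalComplex.quasiIso _ (ComplexShape.up ℤ)) LD RD
  -- the cone of the derived unit is killed
  have hunit : ∀ (E : DerivedCategory (ModSite.Mod O)) (Z : DerivedCategory (ModSite.Mod O)),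
      DerComp.IsDerComp O I Z → Function.Bijective fun g : RD.obj (LD.obj E) ⟶ Z => adjD.unit.app E ≫ g := by
    intro E Z hZ
    let K := DerivedCategory.Q.objPreimage E
    let e : DerivedCategory.Q.obj K ≅ E := DerivedCategory.Q.objObjPreimageIso E
    obtain ⟨N, i, p, hN⟩ := distinguished_cocone_triangle ((etaE φ).app (DerivedCategory.Q.obj K))
    have hb := (killed_cone_iff (Triangle.mk _ i p) hN).1
      (killed_cone_eta φ hflat hI hI' hinj hsurj _ hN) Z hZ
    let j : T.mapDerivedCategory.obj (DerivedCategory.Q.obj K) ≅ RD.obj (LD.obj E) :=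
      T.mapDerivedCategoryFactors.app K ≪≫
        DerivedCategory.Q.mapIso (Iso.refl (((resFun φ).mapHomologicalComplex (ComplexShape.up ℤ)).obj
          (((extF φ).mapHomologicalComplex (ComplexShape.up ℤ)).obj K))) ≪≫
        ((resFun φ).mapDerivedCategoryFactors.app _).symm ≪≫
        RD.mapIso (((extF φ).mapDerivedCategoryFactors.app K).symm ≪≫ LD.mapIso e)
    have hj : adjD.unit.app E = e.inv ≫ (etaE φ).app (DerivedCategory.Q.obj K) ≫ j.hom := by
      have hn := adjD.unit.naturality e.hom
      have hu : adjD.unit.app (DerivedCategory.Q.obj K) = DerivedCategory.Q.map (ηCx (extAdj φ).unit K) ≫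
          (resFun φ).mapDerivedCategoryFactors.inv.app (((extF φ).mapHomologicalComplex (ComplexShape.up ℤ)).obj K) ≫
          RD.map ((extF φ).mapDerivedCategoryFactors.inv.app K) := by
        refine (Adjunction.localization_unit_app (KInj.mapHomologicalComplexAdj (extAdj φ) (ComplexShape.up ℤ))
          DerivedCategory.Q (HomologicalComplex.quasiIso _ (ComplexShape.up ℤ)) DerivedCategory.Q
          (HomologicalComplex.quasiIso _ (ComplexShape.up ℤ)) LD RD K).trans ?_
        rfl
      have hE : adjD.unit.app E = e.inv ≫ adjD.unit.app (DerivedCategory.Q.obj K) ≫ RD.map (LD.map e.hom) := by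
        rw [← Functor.comp_map, ← hn]
        simp
      rw [hE, hu, ηD_app]
      simp only [j, T, Iso.trans_hom, Functor.mapIso_hom, Iso.refl_hom, Iso.app_hom,
        Iso.symm_hom, Iso.app_inv, Category.assoc, Functor.map_comp]
      refine congrArg (e.inv ≫ ·) ?_
      refine congrArg (DerivedCategory.Q.map (ηCx (extAdj φ).unit K) ≫ ·) ?_
      erw [Iso.inv_hom_id_app_assoc]
      exact (Category.id_comp _).symm.trans (congrArg (· ≫ _) (CategoryTheory.Functor.map_id DerivedCategory.Q _).symm)
    have : (fun g : RD.obj (LD.obj E) ⟶ Z => adjD.unit.app E ≫ g) =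
        e.homFromEquiv ∘ (fun g => (etaE φ).app (DerivedCategory.Q.obj K) ≫ g) ∘ j.symm.homFromEquiv := by
      funext g
      simp [hj, Iso.homFromEquiv]
    refine (congrArg Function.Bijective this).mpr ?_
    exact (Equiv.bijective _).comp (hb.comp (Equiv.bijective _))
  -- the cone of the counit is killed
  have hcounit : ∀ (K' Z : DerivedCategory (ModSite.Mod O')), DerComp.IsDerComp O' I' Z →
      Function.Bijective fun g : K' ⟶ Z => adjD.counit.app K' ≫ g := by
    intro K'
    obtain ⟨N, i, p, hN⟩ := distinguished_cocone_triangle (adjD.counit.app K')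
    refine (killed_cone_iff (Triangle.mk _ i p) hN).1 ((killed_res_iff φ hI hI' N).1 ?_)
    refine (killed_cone_iff (RD.mapTriangle.obj (Triangle.mk (adjD.counit.app K') i p))
      (RD.map_distinguished _ hN)).2 fun Z hZ => ?_
    have h := adjD.right_triangle_components K'
    refine (Function.Bijective.of_comp_iff' (hunit (RD.obj K') Z hZ) _).1 ?_
    convert Function.bijective_id using 1
    funext g
    exact (Category.assoc _ _ _).symm.trans ((congrArg (· ≫ g) h).trans (Category.id_comp g))
  refine ⟨fun K' L' _ hL' => ?_, fun E hE => ?_⟩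
  · have : (fun ψ : K' ⟶ L' => RD.map ψ) = adjD.homEquiv (RD.obj K') L' ∘ fun ψ => adjD.counit.app K' ≫ ψ := by
      funext ψ
      simp only [Function.comp_apply, Adjunction.homEquiv_unit, Functor.map_comp]
      rw [← Category.assoc, adjD.right_triangle_components]
      exact (Category.id_comp _).symm
    change Function.Bijective fun ψ : K' ⟶ L' => RD.map ψ
    refine (congrArg Function.Bijective this).mpr ?_
    exact (Equiv.bijective _).comp (hcounit K' L' hL')
  · let K' := ((DerComp.derCompletion O' I').obj (LD.obj E)).obj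
    have hK' : DerComp.IsDerComp O' I' K' := ((DerComp.derCompletion O' I').obj (LD.obj E)).property
    have hR : DerComp.IsDerComp O I (RD.obj K') := (isDerComp_restrictScalars_iff φ I I' hI' K').1 hK'
    let g := adjD.unit.app E ≫ RD.map (DerComp.toDerCompletion I' (LD.obj E))
    obtain ⟨N, i, p, hN⟩ := distinguished_cocone_triangle (DerComp.toDerCompletion I' (LD.obj E))
    have hb := (killed_cone_iff (RD.mapTriangle.obj (Triangle.mk (DerComp.toDerCompletion I' (LD.obj E)) i p))
      (RD.map_distinguished _ hN)).1 ((killed_res_iff φ hI hI' N).2 (killed_cone_toDerCompletion _ hN))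
    have hg : ∀ Z, DerComp.IsDerComp O I Z → Function.Bijective fun x : RD.obj K' ⟶ Z => g ≫ x := fun Z hZ => by
      have : (fun x : RD.obj K' ⟶ Z => g ≫ x) = (fun x => adjD.unit.app E ≫ x) ∘
          fun x => RD.map (DerComp.toDerCompletion I' (LD.obj E)) ≫ x := by
        funext x; simp [g]
      refine (congrArg Function.Bijective this).mpr ?_
      exact (hunit E Z hZ).comp (hb Z hZ)
    obtain ⟨h, hh⟩ := (hg E hE).2 (𝟙 E)
    refine ⟨K', hK', ⟨⟨h, g, (hg _ hR).1 ?_, hh⟩⟩⟩
    change g ≫ h ≫ g = g ≫ 𝟙 _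
    rw [← Category.assoc]
    refine (congrArg (· ≫ g) hh).trans ?_
    exact (Category.id_comp g).trans (Category.comp_id g).symm

end Groth.Agent.FlatIso
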