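import Groth.Agent.Bousfield.TestRestr
import Groth.Agent.Bousfield.RestrScalars

/-!
Modules killed by an ideal do not see a change of rings which is an isomorphism modulo the ideal.
-/

set_option autoImplicit false
set_option backward.isDefEq.respectTransparency false
set_option backward.isDefEq.respectTransparency.types false
set_option linter.style.haveILetI false
set_option linter.unusedSectionVars false
set_option maxHeartbeats 1000000
universe u

open CategoryTheory Limits Opposite

namespace Groth.Agent.FlatIso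

open Groth.Agent.Bousfield (spanLoc mem_spanLoc_contains resFun)

variable {C : Type u} [SmallCategory C] {J : GrothendieckTopology C} {O O' : Sheaf J CommRingCat.{u}} (φ : O ⟶ O')
  {r : ℕ} (s : Fin r → DerComp.GSec O)

/-- the map on sections -/
noncomputable abbrev φs (U : C) : O.obj.obj (op U) →+* O'.obj.obj (op U) := (φ.hom.app (op U)).hom

lemma φs_map {U V : C} (g : V ⟶ U) (a : O.obj.obj (op U)) :
    φs φ V ((O.obj.map g.op).hom a) = (O'.obj.map g.op).hom (φs φ U a) :=
  ConcreteCategory.congr_hom (φ.hom.naturality g.op) a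

/-- the image of a global section -/
noncomputable def φg (t : DerComp.GSec O) : DerComp.GSec O' :=
  ⟨fun U => φs φ U (t.1 U), fun U V g => by rw [← φs_map, t.2 g]⟩

/-- an isomorphism modulo the ideal spanned by `s` -/
structure IsoQuot : Prop where
  /-- injectivity -/
  inj : ∀ (U : C) (a : O.obj.obj (op U)),
    φs φ U a ∈ (spanLoc fun i => φg φ (s i)).ideal U → a ∈ (spanLoc s).ideal U
  /-- local surjectivity -/
  surj : ∀ (U : C) (b : O'.obj.obj (op U)), ∃ S ∈ J U, ∀ ⦃V : C⦄ (g : V ⟶ U), S g →
    ∃ a : O.obj.obj (op V), (O'.obj.map g.op).hom b - φs φ V a ∈ (spanLoc fun i => φg φ (s i)).ideal V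

lemma φs_mem_spanLoc {U : C} {a : O.obj.obj (op U)} (ha : a ∈ (spanLoc s).ideal U) :
    φs φ U a ∈ (spanLoc fun i => φg φ (s i)).ideal U := by
  refine J.superset_covering ?_ ha
  intro V g hg
  change (O'.obj.map g.op).hom (φs φ U a) ∈ Ideal.span _
  rw [← φs_map]
  have h1 := Ideal.mem_map_of_mem (φs φ V) (hg : (O.obj.map g.op).hom a ∈ Ideal.span _)
  rw [Ideal.map_span, ← Set.range_comp] at h1
  exact h1

lemma sect_ext (M : ModSite.Mod O) {U : C} {x y : M.val.obj (op U)} (S : Sieve U) (hS : S ∈ J U)
    (h : ∀ ⦃V : C⦄ (g : V ⟶ U), S g → M.val.map g.op x = M.val.map g.op y) : x = y :=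
  ((isSheaf_iff_isSheaf_of_type J (M.val.presheaf ⋙ forget AddCommGrpCat.{u})).1
    (GrothendieckTopology.HasSheafCompose.isSheaf _ M.isSheaf) S hS).isSeparatedFor.ext h

lemma smul_section_eq_zero {M : ModSite.Mod O} {t : DerComp.GSec O} (h : DerComp.smulEnd t M = 0) (V : C)
    (m : M.val.obj (op V)) : (show (ModSite.ringSh O).obj.obj (op V) from t.1 V) • m = 0 := by
  exact (congrArg (fun e : M ⟶ M => (e.val.app (op V)).hom m) h).trans rfl

/-- local combinations of killing sections kill -/
theorem smul_eq_zero_of_mem {M : ModSite.Mod O} (h : ∀ i, DerComp.smulEnd (s i) M = 0) {U : C}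
    {a : O.obj.obj (op U)} (ha : a ∈ (spanLoc s).ideal U) (m : M.val.obj (op U)) :
    (show (ModSite.ringSh O).obj.obj (op U) from a) • m = 0 := by
  refine sect_ext M _ ha fun V g hg => ?_
  rw [PresheafOfModules.map_smul, map_zero]
  change (show (ModSite.ringSh O).obj.obj (op V) from (O.obj.map g.op).hom a) • M.val.map g.op m = 0
  obtain ⟨c, hc⟩ := Ideal.mem_span_range_iff_exists_fun.1 (hg : (O.obj.map g.op).hom a ∈ Ideal.span _)
  rw [← hc]
  change (∑ i, (show (ModSite.ringSh O).obj.obj (op V) from c i) * (show (ModSite.ringSh O).obj.obj (op V) from (s i).1 V)) •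
    M.val.map g.op m = 0
  rw [Finset.sum_smul]
  refine Finset.sum_eq_zero fun i _ => ?_
  rw [mul_smul, smul_section_eq_zero (h i), smul_zero]

lemma res_smulEnd_eq_zero {N : ModSite.Mod O'} {t : DerComp.GSec O} (h : DerComp.smulEnd t ((resFun φ).obj N) = 0) :
    DerComp.smulEnd (φg φ t) N = 0 := by
  refine SheafOfModules.hom_ext (PresheafOfModules.hom_ext fun X => ?_)
  ext x
  exact smul_section_eq_zero h X.unop x

section Module

variable {φ s} (hq : IsoQuot φ s) {M : ModSite.Mod O} (hM : ∀ i, DerComp.smulEnd (s i) M = 0)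

/-- restriction of sections, additively -/
noncomputable def rmap (M : ModSite.Mod O) {U V : C} (g : V ⟶ U) : M.val.obj (op U) →+ M.val.obj (op V) :=
  (M.val.presheaf.map g.op).hom

/-- `y` is `b • m` -/
def IsAct (M : ModSite.Mod O) (φ : O ⟶ O') {r : ℕ} (s : Fin r → DerComp.GSec O) {U : C}
    (b : O'.obj.obj (op U)) (m y : M.val.obj (op U)) : Prop :=
  ∀ ⦃V : C⦄ (g : V ⟶ U) (a : O.obj.obj (op V)),
    (O'.obj.map g.op).hom b - φs φ V a ∈ (spanLoc fun i => φg φ (s i)).ideal V →
      rmap M g y = (show (ModSite.ringSh O).obj.obj (op V) from a) • rmap M g m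

include hq hM in
lemma smul_congr {V : C} {b : O'.obj.obj (op V)} {a a' : O.obj.obj (op V)}
    (ha : b - φs φ V a ∈ (spanLoc fun i => φg φ (s i)).ideal V)
    (ha' : b - φs φ V a' ∈ (spanLoc fun i => φg φ (s i)).ideal V) (m : M.val.obj (op V)) :
    (show (ModSite.ringSh O).obj.obj (op V) from a) • m = (show (ModSite.ringSh O).obj.obj (op V) from a') • m := by
  have h1 : a - a' ∈ (spanLoc s).ideal V := hq.inj V _ (by
    rw [map_sub]
    simpa using Ideal.sub_mem _ ha' ha)
  rw [← sub_eq_zero, ← sub_smul]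
  exact smul_eq_zero_of_mem s hM h1 m

lemma rmap_smul {U V : C} (g : V ⟶ U) (a : O.obj.obj (op U)) (m : M.val.obj (op U)) :
    rmap M g ((show (ModSite.ringSh O).obj.obj (op U) from a) • m) =
      (show (ModSite.ringSh O).obj.obj (op V) from (O.obj.map g.op).hom a) • rmap M g m :=
  PresheafOfModules.map_smul M.val g.op _ m

lemma rmap_comp {U V W : C} (g : V ⟶ U) (t : W ⟶ V) (m : M.val.obj (op U)) :
    rmap M (t ≫ g) m = rmap M t (rmap M g m) :=
  PresheafOfModules.map_comp_apply M.val g.op t.op m

lemma mem_map {U V : C} (g : V ⟶ U) {b : O'.obj.obj (op U)} {a : O.obj.obj (op U)}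
    (h : b - φs φ U a ∈ (spanLoc fun i => φg φ (s i)).ideal U) :
    (O'.obj.map g.op).hom b - φs φ V ((O.obj.map g.op).hom a) ∈ (spanLoc fun i => φg φ (s i)).ideal V := by
  rw [φs_map, ← map_sub]
  exact (spanLoc fun i => φg φ (s i)).map_mem g h

include hq hM in
theorem existsUnique_act (U : C) (b : O'.obj.obj (op U)) (m : M.val.obj (op U)) : ∃! y, IsAct M φ s b m y := by
  obtain ⟨S, hS, hS'⟩ := hq.surj U b
  choose a ha using hS'
  have hF := (isSheaf_iff_isSheaf_of_type J (M.val.presheaf ⋙ forget AddCommGrpCat.{u})).1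
    (GrothendieckTopology.HasSheafCompose.isSheaf _ M.isSheaf) S hS
  let fam : Presieve.FamilyOfElements (M.val.presheaf ⋙ forget AddCommGrpCat.{u}) S.arrows := fun V g hg =>
    (show (ModSite.ringSh O).obj.obj (op V) from a g hg) • rmap M g m
  have hfam : fam.Compatible := by
    intro Y₁ Y₂ W t₁ t₂ g₁ g₂ h₁ h₂ e
    change rmap M t₁ ((show (ModSite.ringSh O).obj.obj (op Y₁) from a g₁ h₁) • rmap M g₁ m) =
      rmap M t₂ ((show (ModSite.ringSh O).obj.obj (op Y₂) from a g₂ h₂) • rmap M g₂ m)
    rw [rmap_smul, rmap_smul, ← rmap_comp, ← rmap_comp, e]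
    refine smul_congr hq hM (b := (O'.obj.map (t₂ ≫ g₂).op).hom b) ?_ ?_ _
    · have := mem_map t₁ (ha g₁ h₁)
      rw [← CommRingCat.comp_apply, ← Functor.map_comp, ← op_comp, e] at this
      exact this
    · have := mem_map t₂ (ha g₂ h₂)
      rw [← CommRingCat.comp_apply, ← Functor.map_comp, ← op_comp] at this
      exact this
  refine ⟨hF.amalgamate fam hfam, fun V g c hc => ?_, fun y hy => ?_⟩
  · refine sect_ext M _ (J.pullback_stable g hS) fun W t ht => ?_
    change rmap M t (rmap M g (hF.amalgamate fam hfam)) = rmap M t ((show (ModSite.ringSh O).obj.obj (op V) from c) • rmap M g m)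
    rw [← rmap_comp, rmap_smul, ← rmap_comp]
    refine (hF.valid_glue hfam (t ≫ g) ht).trans (smul_congr hq hM (b := (O'.obj.map (t ≫ g).op).hom b) (ha _ ht) ?_ _)
    have := mem_map t hc
    rw [← CommRingCat.comp_apply, ← Functor.map_comp, ← op_comp] at this
    exact this
  · refine hF.isSeparatedFor.ext fun V g hg => ?_
    exact (hy g (a g hg) (ha g hg)).trans (hF.valid_glue hfam g hg).symm

/-- the action -/
noncomputable def act (hq : IsoQuot φ s) (hM : ∀ i, DerComp.smulEnd (s i) M = 0) (U : C) (b : O'.obj.obj (op U))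
    (m : M.val.obj (op U)) : M.val.obj (op U) :=
  (existsUnique_act hq hM U b m).choose

lemma act_spec (U : C) (b : O'.obj.obj (op U)) (m : M.val.obj (op U)) : IsAct M φ s b m (act hq hM U b m) :=
  (existsUnique_act hq hM U b m).choose_spec.1

lemma eq_act {U : C} {b : O'.obj.obj (op U)} {m y : M.val.obj (op U)} (h : IsAct M φ s b m y) :
    y = act hq hM U b m :=
  (existsUnique_act hq hM U b m).choose_spec.2 y h

lemma act_of_mem {U : C} {b : O'.obj.obj (op U)} {a : O.obj.obj (op U)}
    (h : b - φs φ U a ∈ (spanLoc fun i => φg φ (s i)).ideal U) (m : M.val.obj (op U)) :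
    act hq hM U b m = (show (ModSite.ringSh O).obj.obj (op U) from a) • m := by
  refine (eq_act hq hM fun V g c hc => ?_).symm
  rw [rmap_smul]
  exact smul_congr hq hM (mem_map g h) hc _

lemma act_map {U V : C} (g : V ⟶ U) (b : O'.obj.obj (op U)) (m : M.val.obj (op U)) :
    rmap M g (act hq hM U b m) = act hq hM V ((O'.obj.map g.op).hom b) (rmap M g m) := by
  refine eq_act hq hM fun W t c hc => ?_
  rw [← rmap_comp, ← rmap_comp]
  refine act_spec hq hM U b m (t ≫ g) c ?_
  rw [op_comp, Functor.map_comp]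
  exact hc

include hq in
/-- locally the action is multiplication by lifts -/
lemma exists_lifts {U : C} (b₁ b₂ : O'.obj.obj (op U)) : ∃ S ∈ J U, ∀ ⦃V : C⦄ (g : V ⟶ U), S g →
    ∃ a₁ a₂ : O.obj.obj (op V),
      (O'.obj.map g.op).hom b₁ - φs φ V a₁ ∈ (spanLoc fun i => φg φ (s i)).ideal V ∧
      (O'.obj.map g.op).hom b₂ - φs φ V a₂ ∈ (spanLoc fun i => φg φ (s i)).ideal V := by
  obtain ⟨S₁, hS₁, h₁⟩ := hq.surj U b₁
  obtain ⟨S₂, hS₂, h₂⟩ := hq.surj U b₂
  exact ⟨S₁ ⊓ S₂, J.intersection_covering hS₁ hS₂, fun V g hg =>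
    ⟨_, _, (h₁ g hg.1).choose_spec, (h₂ g hg.2).choose_spec⟩⟩

/-- the module structure over the new ring -/
noncomputable abbrev actModule (hq : IsoQuot φ s) (hM : ∀ i, DerComp.smulEnd (s i) M = 0) (X : Cᵒᵖ) :
    Module ((ModSite.ringSh O').obj.obj X) (M.val.presheaf.obj X) where
  smul b m := act hq hM X.unop b m
  one_smul m := by
    change act hq hM X.unop (1 : O'.obj.obj X) (show M.val.obj (op X.unop) from m) = m
    rw [act_of_mem hq hM (a := 1) (by rw [map_one, sub_self]; exact Ideal.zero_mem _)]
    exact one_smul _ _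
  mul_smul b₁ b₂ m := by
    change act hq hM X.unop ((show O'.obj.obj X from b₁) * (show O'.obj.obj X from b₂)) m = act hq hM X.unop b₁ (act hq hM X.unop b₂ m)
    obtain ⟨S, hS, h⟩ := exists_lifts hq (show O'.obj.obj (op X.unop) from b₁) b₂
    refine sect_ext M S hS fun V g hg => ?_
    obtain ⟨a₁, a₂, h₁, h₂⟩ := h g hg
    change rmap M g _ = rmap M g _
    rw [act_map, act_map, act_map, map_mul, act_of_mem hq hM h₁, act_of_mem hq hM h₂,
      act_of_mem hq hM (a := a₁ * a₂)]
    · exact mul_smul _ _ _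
    · have := Ideal.add_mem _ (Ideal.mul_mem_right ((O'.obj.map g.op).hom b₂) _ h₁) (Ideal.mul_mem_left _ (φs φ V a₁) h₂)
      convert this using 1
      rw [map_mul]
      ring
  smul_zero b := by
    change act hq hM X.unop b 0 = 0
    refine (eq_act hq hM fun V g c _ => ?_).symm
    rw [map_zero, smul_zero]
  smul_add b m₁ m₂ := by
    change act hq hM X.unop b _ = act hq hM X.unop b m₁ + act hq hM X.unop b m₂
    refine (eq_act hq hM fun V g c hc => ?_).symm
    rw [map_add, act_spec hq hM X.unop b m₁ g c hc, act_spec hq hM X.unop b m₂ g c hc, ← smul_add]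
    exact congrArg _ (map_add (rmap M g) m₁ m₂).symm
  add_smul b₁ b₂ m := by
    change act hq hM X.unop ((show O'.obj.obj X from b₁) + (show O'.obj.obj X from b₂)) m = act hq hM X.unop b₁ m + act hq hM X.unop b₂ m
    obtain ⟨S, hS, h⟩ := exists_lifts hq (show O'.obj.obj (op X.unop) from b₁) b₂
    refine sect_ext M S hS fun V g hg => ?_
    obtain ⟨a₁, a₂, h₁, h₂⟩ := h g hg
    change rmap M g _ = rmap M g _
    rw [map_add (rmap M g), act_map, act_map, act_map, map_add, act_of_mem hq hM h₁, act_of_mem hq hM h₂,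
      act_of_mem hq hM (a := a₁ + a₂)]
    · exact add_smul _ _ _
    · have := Ideal.add_mem _ h₁ h₂
      convert this using 1
      rw [map_add]
      ring
  zero_smul m := by
    change act hq hM X.unop (0 : O'.obj.obj X) (show M.val.obj (op X.unop) from m) = 0
    rw [act_of_mem hq hM (a := 0) (by rw [map_zero, sub_self]; exact Ideal.zero_mem _)]
    exact zero_smul _ _

include hq hM in
/-- killed modules come from the new ring -/
theorem exists_res_iso : ∃ N : ModSite.Mod O', Nonempty ((resFun φ).obj N ≅ M) := by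
  letI := actModule hq hM
  let P : PresheafOfModules.{u} (ModSite.ringSh O').obj := PresheafOfModules.ofPresheaf M.val.presheaf
    fun X Y g b m => act_map hq hM g.unop b m
  let N : ModSite.Mod O' := ⟨P, M.isSheaf⟩
  refine ⟨N, ⟨(SheafOfModules.fullyFaithfulForget _).preimageIso (PresheafOfModules.isoMk (fun X => ?_) ?_)⟩⟩
  · refine (show ((resFun φ).obj N).val.obj X ≅ M.val.obj X from
      LinearEquiv.toModuleIso (show ((resFun φ).obj N).val.obj X ≃ₗ[(ModSite.ringSh O).obj.obj X] M.val.obj X from
      { toFun := fun x => x, invFun := fun x => x, map_add' := fun _ _ => rfl, map_smul' := fun a x => ?_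
        left_inv := fun _ => rfl, right_inv := fun _ => rfl }))
    change act hq hM X.unop (φs φ X.unop a) x = _
    rw [act_of_mem hq hM (a := a) (by rw [sub_self]; exact Ideal.zero_mem _)]
    rfl
  · intro X Y g
    rfl

include hq in
/-- restriction is fully faithful out of killed modules -/
theorem bijective_res_map (N N' : ModSite.Mod O') (hN : ∀ i, DerComp.smulEnd (φg φ (s i)) N = 0) :
    Function.Bijective ((resFun φ).map : (N ⟶ N') → _) := by
  refine ⟨fun a b h => SheafOfModules.hom_ext (PresheafOfModules.hom_ext fun X => ?_), fun g => ?_⟩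
  · ext x
    exact congrArg (fun e : (resFun φ).obj N ⟶ (resFun φ).obj N' => (e.val.app X).hom x) h
  let gX : ∀ X : Cᵒᵖ, N.val.obj X →+ N'.val.obj X := fun X =>
    { toFun := fun x => (g.val.app X).hom x
      map_zero' := map_zero (g.val.app X).hom
      map_add' := fun x y => map_add (g.val.app X).hom x y }
  have hnat : ∀ {X Y : Cᵒᵖ} (t : X ⟶ Y) (x : N.val.obj X), gX Y (N.val.map t x) = N'.val.map t (gX X x) :=
    fun t x => PresheafOfModules.naturality_apply g.val t x
  have hsmul : ∀ (V : C) (a : O.obj.obj (op V)) (x : N.val.obj (op V)),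
      gX (op V) ((show (ModSite.ringSh O').obj.obj (op V) from φs φ V a) • x) =
        (show (ModSite.ringSh O').obj.obj (op V) from φs φ V a) • gX (op V) x :=
    fun V a x => (g.val.app (op V)).hom.map_smul _ x
  have hlin : ∀ (X : Cᵒᵖ) (b : (ModSite.ringSh O').obj.obj X) (x : N.val.obj X), gX X (b • x) = b • gX X x := by
    intro X b x
    obtain ⟨S, hS, h⟩ := hq.surj X.unop b
    refine sect_ext N' S hS fun V t ht => ?_
    obtain ⟨a, ha⟩ := h t ht
    change N'.val.map t.op (gX X (b • x)) = N'.val.map t.op (b • gX X x)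
    rw [← hnat, PresheafOfModules.map_smul, PresheafOfModules.map_smul, ← hnat]
    let b' : (ModSite.ringSh O').obj.obj (op V) := (O'.obj.map t.op).hom b
    let x' : N.val.obj (op V) := N.val.map t.op x
    change gX (op V) (b' • x') = b' • gX (op V) x'
    let d : (ModSite.ringSh O').obj.obj (op V) := (O'.obj.map t.op).hom b - φs φ V a
    have hb : b' = (show (ModSite.ringSh O').obj.obj (op V) from φs φ V a) + d := (add_sub_cancel _ _).symm
    have h0 : d • x' = 0 := smul_eq_zero_of_mem _ hN ha x'
    have h0' : d • gX (op V) x' = 0 := by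
      refine sect_ext N' _ ha fun W t' ht' => ?_
      rw [PresheafOfModules.map_smul, ← hnat, map_zero]
      obtain ⟨c, hc⟩ := Ideal.mem_span_range_iff_exists_fun.1
        (ht' : (O'.obj.map t'.op).hom _ ∈ Ideal.span _)
      change (show (ModSite.ringSh O').obj.obj (op W) from (O'.obj.map t'.op).hom _) • gX (op W) _ = 0
      rw [← hc]
      change (∑ i, (show (ModSite.ringSh O').obj.obj (op W) from c i) *
        (show (ModSite.ringSh O').obj.obj (op W) from φs φ W ((s i).1 W))) • gX (op W) _ = 0
      rw [Finset.sum_smul]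
      refine Finset.sum_eq_zero fun i _ => ?_
      rw [mul_smul, ← hsmul]
      have := smul_section_eq_zero (hN i) W (N.val.map t'.op x')
      change (show (ModSite.ringSh O').obj.obj (op W) from φs φ W ((s i).1 W)) • _ = 0 at this
      rw [this, map_zero, smul_zero]
    rw [hb, add_smul, add_smul, h0, h0', add_zero, add_zero]
    exact hsmul V a x'
  refine ⟨⟨{ app := fun X => ModuleCat.ofHom { toFun := gX X, map_add' := map_add _, map_smul' := hlin X }
             naturality := fun {X Y} t => ?_ }⟩, SheafOfModules.hom_ext (PresheafOfModules.hom_ext fun X => rfl)⟩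
  ext x
  exact hnat t x

include hq in
/-- **the unit is an isomorphism on killed modules** -/
theorem isIso_unit_of_killed {L : ModSite.Mod O ⥤ ModSite.Mod O'} (adj : L ⊣ resFun φ)
    (hM : ∀ i, DerComp.smulEnd (s i) M = 0) : IsIso (adj.unit.app M) := by
  obtain ⟨N, ⟨e⟩⟩ := exists_res_iso hq hM
  suffices h : IsIso (adj.unit.app ((resFun φ).obj N)) by
    have : adj.unit.app M = e.inv ≫ adj.unit.app ((resFun φ).obj N) ≫ (resFun φ).map (L.map e.hom) := by
      rw [← Functor.comp_map, ← adj.unit.naturality]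
      simp
    rw [this]
    infer_instance
  have hN : ∀ i, DerComp.smulEnd (φg φ (s i)) N = 0 := fun i => res_smulEnd_eq_zero φ (by
    rw [← cancel_mono e.hom, DerComp.smulEnd_comm, hM, comp_zero, zero_comp])
  have hε : IsIso (adj.counit.app N) := by
    rw [isIso_iff_coyoneda_map_bijective]
    intro N'
    have : (fun x : N ⟶ N' => adj.counit.app N ≫ x) =
        (adj.homEquiv ((resFun φ).obj N) N').symm ∘ (resFun φ).map := by
      funext x
      simp [Adjunction.homEquiv_counit]
    refine (congrArg Function.Bijective this).mpr ?_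
    exact (Equiv.bijective _).comp (bijective_res_map hq N N' hN)
  have h := adj.right_triangle_components N
  exact IsIso.of_isIso_fac_right h

end Module

end Groth.Agent.FlatIso
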